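import Mathlib

/-! Two morphisms from `𝔸¹_A` which agree on all thickenings of the zero section agree near it. -/

suppress_compilation
universe u

open CategoryTheory AlgebraicGeometry Polynomial

namespace Groth.Agent.BBInj

variable {A : Type u} [CommRing A]

/-- A localisation of `A[X]` in which `X`-adically zero elements vanish. -/
theorem eq_zero_of_forall_mem (b : A[X]) (L : Type u) [CommRing L] [Algebra A[X] L]
    [IsLocalization.Away (b * C (b.coeff 0)) L] (d : L)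
    (h : ∀ n : ℕ, d ∈ Ideal.span {algebraMap A[X] L (X ^ n)}) : d = 0 := by
  obtain ⟨⟨a, _, N, rfl⟩, ha⟩ := IsLocalization.surj (Submonoid.powers (b * C (b.coeff 0))) d
  let A₀ := Localization.Away (b.coeff 0)
  let ι : A[X] →+* PowerSeries A₀ := (PowerSeries.map (algebraMap A A₀)).comp Polynomial.coeToPowerSeries.ringHom
  have hu : IsUnit (ι (b * C (b.coeff 0))) := by
    rw [PowerSeries.isUnit_iff_constantCoeff]
    have hbu : IsUnit (algebraMap A A₀ (b.coeff 0)) :=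
      IsLocalization.Away.algebraMap_isUnit (b.coeff 0)
    simpa [ι, ← PowerSeries.coeff_zero_eq_constantCoeff_apply] using hbu
  let e : L →+* PowerSeries A₀ := IsLocalization.Away.lift (b * C (b.coeff 0)) hu
  have he : ∀ z, e (algebraMap A[X] L z) = ι z := fun z => IsLocalization.Away.lift_eq _ hu z
  have h0 : ι a = 0 := by
    ext i
    obtain ⟨c, hc⟩ := Ideal.mem_span_singleton'.1 (h (i + 1))
    have h1 := congrArg e ha
    rw [map_mul, he, he, ← hc, map_mul, he] at h1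
    rw [← h1, map_pow, show ι X = PowerSeries.X by simp [ι], map_zero]
    rw [mul_assoc, mul_left_comm, PowerSeries.coeff_X_pow_mul', if_neg (by omega)]
  have hcoef : ∀ i, ∃ m : ℕ, b.coeff 0 ^ m * a.coeff i = 0 := fun i => by
    have h2 : algebraMap A A₀ (a.coeff i) = 0 := by
      have := congrArg (PowerSeries.coeff i) h0
      simpa [ι] using this
    obtain ⟨⟨_, m, rfl⟩, hm⟩ := (IsLocalization.map_eq_zero_iff (Submonoid.powers (b.coeff 0)) A₀ _).1 h2
    exact ⟨m, hm⟩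
  choose m hm using hcoef
  have h3 : C (b.coeff 0) ^ a.support.sup m * a = 0 := by
    ext i
    rw [← map_pow, coeff_C_mul, coeff_zero]
    by_cases hi : i ∈ a.support
    · obtain ⟨j, hj⟩ := Nat.exists_eq_add_of_le (Finset.le_sup (f := m) hi)
      rw [hj, pow_add, mul_right_comm, hm, zero_mul]
    · rw [notMem_support_iff.1 hi, mul_zero]
  have h4 : algebraMap A[X] L a = 0 := by
    refine (IsLocalization.map_eq_zero_iff (Submonoid.powers (b * C (b.coeff 0))) L _).2
      ⟨⟨_, a.support.sup m, rfl⟩, ?_⟩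
    show (b * C (b.coeff 0)) ^ a.support.sup m * a = 0
    rw [mul_pow, mul_assoc, h3, mul_zero]
  exact (IsLocalization.map_units L (⟨_, N, rfl⟩ : Submonoid.powers (b * C (b.coeff 0)))).mul_left_eq_zero.1
    (ha.trans h4)

/-- Morphisms agreeing on all thickenings of the zero section agree on a neighbourhood. -/
theorem exists_open_agree {X₀ : Scheme.{u}} (f₁ f₂ : Spec (CommRingCat.of A[X]) ⟶ X₀)
    (h : ∀ n : ℕ, Spec.map (CommRingCat.ofHom (Ideal.Quotient.mk (Ideal.span {(X : A[X]) ^ n}))) ≫ f₁ =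
      Spec.map (CommRingCat.ofHom (Ideal.Quotient.mk (Ideal.span {(X : A[X]) ^ n}))) ≫ f₂)
    (p : Spec (CommRingCat.of A[X])) (hp : (X : A[X]) ∈ p.asIdeal) :
    ∃ U : (Spec (CommRingCat.of A[X])).Opens, p ∈ U ∧ U.ι ≫ f₁ = U.ι ≫ f₂ := by
  let q := CommRingCat.ofHom (Ideal.Quotient.mk (Ideal.span {(X : A[X]) ^ 1}))
  obtain ⟨p', hp'⟩ : ∃ p', Spec.map q p' = p := by
    have : p.asIdeal.IsPrime := p.isPrime
    refine ⟨⟨p.asIdeal.map q.hom, Ideal.map_isPrime_of_surjective Ideal.Quotient.mk_surjective ?_⟩,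
      PrimeSpectrum.ext ?_⟩
    · simpa [q, Ideal.mk_ker, Ideal.span_le] using hp
    · show (p.asIdeal.map q.hom).comap q.hom = _
      refine (Ideal.comap_map_of_surjective _ Ideal.Quotient.mk_surjective _).trans (sup_eq_left.2 ?_)
      rw [← RingHom.ker_eq_comap_bot]
      simpa [q, Ideal.mk_ker, Ideal.span_le] using hp
  have hfp : f₁ p = f₂ p := by
    have := congr(($(h 1)) p')
    simpa [q, ← hp'] using this
  obtain ⟨O, hO, hpO, -⟩ := exists_isAffineOpen_mem_and_subset (x := f₁ p) (U := ⊤) trivial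
  obtain ⟨_, ⟨b, rfl⟩, hpb, hbO⟩ := PrimeSpectrum.isTopologicalBasis_basic_opens.exists_subset_of_mem_open
    (show p ∈ ((f₁ ⁻¹ᵁ O) ⊓ (f₂ ⁻¹ᵁ O) : (Spec (CommRingCat.of A[X])).Opens) from ⟨hpO, (show f₂ p ∈ O from hfp ▸ hpO)⟩)
    ((f₁ ⁻¹ᵁ O) ⊓ (f₂ ⁻¹ᵁ O)).2
  let b' := b * C (b.coeff 0)
  let L := Localization.Away b'
  let j : Spec (CommRingCat.of L) ⟶ Spec (CommRingCat.of A[X]) := Spec.map (CommRingCat.ofHom (algebraMap A[X] L))
  have : IsOpenImmersion j := IsOpenImmersion.of_isLocalization b'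
  have hpb' : p ∈ PrimeSpectrum.basicOpen b' := by
    refine fun hmem => ?_
    rcases p.isPrime.mem_or_mem hmem with h' | h'
    · exact hpb h'
    · refine hpb ?_
      show b ∈ p.asIdeal
      rw [← sub_add_cancel b (C (b.coeff 0))]
      refine p.asIdeal.add_mem (Ideal.mem_of_dvd _ ?_ hp) h'
      rw [X_dvd_iff]
      simp
  let Db : (Spec (CommRingCat.of A[X])).Opens := PrimeSpectrum.basicOpen b'
  have hrange : Set.range j = (Db : Set (Spec (CommRingCat.of A[X]))) :=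
    PrimeSpectrum.localization_away_comap_range L b'
  have hO' : ∀ x, f₁ (j x) ∈ O ∧ f₂ (j x) ∈ O := fun x => by
    have hx : j x ∈ Db := hrange.le ⟨x, rfl⟩
    exact hbO (fun hb => hx (Ideal.mul_mem_right _ _ hb))
  have hr₁ : Set.range (j ≫ f₁) ⊆ Set.range hO.fromSpec := by
    rintro _ ⟨x, rfl⟩; rw [IsAffineOpen.range_fromSpec]; exact (hO' x).1
  have hr₂ : Set.range (j ≫ f₂) ⊆ Set.range hO.fromSpec := by
    rintro _ ⟨x, rfl⟩; rw [IsAffineOpen.range_fromSpec]; exact (hO' x).2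
  let g₁ := IsOpenImmersion.lift hO.fromSpec (j ≫ f₁) hr₁
  let g₂ := IsOpenImmersion.lift hO.fromSpec (j ≫ f₂) hr₂
  suffices hg : g₁ = g₂ by
    refine ⟨j.opensRange, by show p ∈ Set.range j; rw [hrange]; exact hpb', ?_⟩
    rw [← cancel_epi j.isoOpensRange.hom]
    simp only [Scheme.Hom.isoOpensRange_hom_ι_assoc]
    rw [← IsOpenImmersion.lift_fac hO.fromSpec (j ≫ f₁) hr₁, ← IsOpenImmersion.lift_fac hO.fromSpec (j ≫ f₂) hr₂]
    exact congrArg (· ≫ _) hg
  obtain ⟨φ₁, hφ₁⟩ : ∃ φ, Spec.map φ = g₁ := ⟨_, Spec.map_preimage g₁⟩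
  obtain ⟨φ₂, hφ₂⟩ : ∃ φ, Spec.map φ = g₂ := ⟨_, Spec.map_preimage g₂⟩
  rw [← hφ₁, ← hφ₂]
  congr 1
  ext c
  refine sub_eq_zero.1 (eq_zero_of_forall_mem b L _ fun n => ?_)
  let I : Ideal L := Ideal.span {algebraMap A[X] L (X ^ n)}
  let qL := CommRingCat.ofHom (Ideal.Quotient.mk I)
  let ρ := CommRingCat.ofHom (Ideal.quotientMap I (algebraMap A[X] L)
    (show Ideal.span {(X : A[X]) ^ n} ≤ I.comap (algebraMap A[X] L) by
      rw [Ideal.span_le, Set.singleton_subset_iff]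
      exact Ideal.subset_span rfl))
  have hj : Spec.map qL ≫ j = Spec.map ρ ≫ Spec.map (CommRingCat.ofHom (Ideal.Quotient.mk (Ideal.span {(X : A[X]) ^ n}))) := by
    rw [← Spec.map_comp, ← Spec.map_comp, ← CommRingCat.ofHom_comp, ← CommRingCat.ofHom_comp]
    rfl
  have hq : φ₁ ≫ qL = φ₂ ≫ qL := by
    apply Spec.map_injective
    rw [Spec.map_comp, Spec.map_comp, hφ₁, hφ₂, ← cancel_mono hO.fromSpec, Category.assoc, Category.assoc,
      IsOpenImmersion.lift_fac, IsOpenImmersion.lift_fac, reassoc_of% hj, reassoc_of% hj, h n]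
  exact Ideal.Quotient.eq.1 congr($hq c)

end Groth.Agent.BBInj
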