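import Groth.Prelude.Def_Magnet2
import Groth.Agent.RedPts.Coord

/-! Coordinates of points of the affine line `A(ℕ)_S` with its multiplicative monoid structure. -/

suppress_compilation
universe u

open CategoryTheory MonoidalCategory CartesianMonoidalCategory MonObj AlgebraicGeometry Limits WithConv
open scoped CategoryTheory.Obj

namespace Groth.Agent.BBInj

open Groth.Agent.GmChar (zlAlg spMap spMap_mul sp)
open Groth.Agent.RedPts (Z toZ ptRing ptAlg toΓ toΓ_spMap_injective toΓ_spMap_ptAlg ptRing_injective exists_ptRing)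

attribute [-instance] ULift.module

variable {S : Scheme.{u}} {X : Over S}

theorem homEquiv_symm_mul {G : Over (Spec (CommRingCat.of Z.{u}))} [MonObj G]
    (x y : X ⟶ (Over.pullback (toZ S)).obj G) :
    ((Over.mapPullbackAdj (toZ S)).homEquiv X G).symm (x * y) =
      ((Over.mapPullbackAdj (toZ S)).homEquiv X G).symm x *
        ((Over.mapPullbackAdj (toZ S)).homEquiv X G).symm y := by
  obtain ⟨a, rfl⟩ := ((Over.mapPullbackAdj (toZ S)).homEquiv X G).surjective x
  obtain ⟨b, rfl⟩ := ((Over.mapPullbackAdj (toZ S)).homEquiv X G).surjective y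
  rw [Equiv.symm_apply_apply, Equiv.symm_apply_apply, Equiv.symm_apply_eq]
  simp only [Adjunction.homEquiv_unit, Functor.map_mul, MonObj.comp_mul]

theorem ptAlg_mul {H : Type u} [CommRing H] [Bialgebra Z.{u} H]
    (x y : X ⟶ Red.bc (toZ S) (sp Z.{u} H)) : letI := zlAlg Γ(X.left, ⊤)
    toConv (ptAlg (x * y)) = toConv (ptAlg x) * toConv (ptAlg y) := by
  let := zlAlg Γ(X.left, ⊤)
  apply WithConv.ofConv_injective
  apply toΓ_spMap_injective
  show toΓ X ≫ spMap (ptAlg (x * y)) = toΓ X ≫ spMap _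
  rw [spMap_mul, ofConv_toConv, ofConv_toConv, MonObj.comp_mul, toΓ_spMap_ptAlg, toΓ_spMap_ptAlg,
    toΓ_spMap_ptAlg]
  exact homEquiv_symm_mul x y

theorem ptRing_comp {H : Type u} [CommRing H] [Algebra Z.{u} H] {X' : Over S} (f : X' ⟶ X)
    (x : X ⟶ Red.bc (toZ S) (sp Z.{u} H)) : ptRing (f ≫ x) = f.left.appTop.hom.comp (ptRing x) := by
  let φ : X.left ⟶ Spec (CommRingCat.of H) := x.left ≫ pullback.fst _ _
  let φ' : X'.left ⟶ Spec (CommRingCat.of H) := (f ≫ x).left ≫ pullback.fst _ _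
  have h : φ' = f.left ≫ φ := Category.assoc f.left x.left _
  show ((Scheme.ΓSpecIso (CommRingCat.of H)).inv ≫ φ'.appTop).hom = _
  rw [h, Scheme.Hom.comp_appTop]
  rfl

/-- the natural numbers as a submonoid of `ℤ` -/
abbrev N : AddSubmonoid ℤ := AddSubmonoid.multiples (1 : ℤ)

/-- the generator -/
abbrev gen : N := ⟨1, AddSubmonoid.mem_multiples 1⟩

theorem eq_nsmul_gen (n : N) : n = (n : ℤ).toNat • gen := by
  obtain ⟨k, hk⟩ := n.2
  apply Subtype.ext
  simp [← hk]

abbrev HN := MonoidAlgebra Z.{u} (Multiplicative N)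

/-- the coordinate of a point of the affine line -/
def cN (x : X ⟶ Magnet.AMonS S N) : Γ(X.left, ⊤) :=
  ptRing (H := HN.{u}) x (MonoidAlgebra.single (Multiplicative.ofAdd gen) 1)

theorem cN_comp {X' : Over S} (f : X' ⟶ X) (x : X ⟶ Magnet.AMonS S N) :
    cN (f ≫ x) = f.left.appTop (cN x) := by
  rw [cN, ptRing_comp]
  rfl

theorem cN_injective : Function.Injective (cN : (X ⟶ Magnet.AMonS S N) → _) := by
  let := zlAlg Γ(X.left, ⊤)
  intro x y h
  refine ptRing_injective (H := HN.{u}) ?_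
  suffices ptAlg (H := HN.{u}) x = ptAlg (H := HN.{u}) y from congrArg (·.toRingHom) this
  apply (MonoidAlgebra.lift Z.{u} Γ(X.left, ⊤) (Multiplicative N)).symm.injective
  refine MonoidHom.ext fun n => ?_
  have e : n = Multiplicative.ofAdd gen ^ (n.toAdd : ℤ).toNat := congrArg Multiplicative.ofAdd (eq_nsmul_gen n.toAdd)
  rw [e, map_pow, map_pow]
  exact congrArg (· ^ _) h

theorem exists_cN (a : Γ(X.left, ⊤)) : ∃ x : X ⟶ Magnet.AMonS S N, cN x = a := by
  let := zlAlg Γ(X.left, ⊤)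
  let ψ : Multiplicative N →* Γ(X.left, ⊤) :=
    { toFun := fun n => a ^ (n.toAdd : ℤ).toNat
      map_one' := by simp
      map_mul' := fun p q => by
        obtain ⟨k, hk⟩ := p.toAdd.2
        obtain ⟨l, hl⟩ := q.toAdd.2
        rw [← pow_add]
        congr 1
        simp [← hk, ← hl]
        omega }
  obtain ⟨x, hx⟩ := exists_ptRing (S := S) (H := HN.{u})
    (MonoidAlgebra.lift Z.{u} Γ(X.left, ⊤) (Multiplicative N) ψ).toRingHom
  refine ⟨x, ?_⟩
  rw [cN, show ptRing (H := HN.{u}) x = _ from hx]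
  show MonoidAlgebra.lift _ _ _ ψ _ = _
  rw [MonoidAlgebra.lift_single]
  show algebraMap Z.{u} Γ(X.left, ⊤) 1 * a ^ (1 : ℤ).toNat = a
  simp

theorem cN_mul (x y : X ⟶ Magnet.AMonS S N) : cN (x * y) = cN x * cN y := by
  let := zlAlg Γ(X.left, ⊤)
  have h := congrArg (fun f : WithConv (HN.{u} →ₐ[Z.{u}] Γ(X.left, ⊤)) =>
    f.ofConv (MonoidAlgebra.single (Multiplicative.ofAdd gen) 1)) (ptAlg_mul (H := HN.{u}) x y)
  refine h.trans ?_
  simp [AlgHom.convMul_def]
  rfl

theorem cN_one : cN (1 : X ⟶ Magnet.AMonS S N) = 1 := by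
  obtain ⟨x, hx⟩ := exists_cN (S := S) (X := X) 1
  have h := cN_mul x (1 : X ⟶ Magnet.AMonS S N)
  rw [_root_.mul_one, hx, _root_.one_mul] at h
  exact h.symm

theorem cN_pow (x : X ⟶ Magnet.AMonS S N) : ∀ k : ℕ, cN (x ^ k) = cN x ^ k
  | 0 => by rw [pow_zero, pow_zero, cN_one]
  | k + 1 => by rw [pow_succ, pow_succ, cN_mul, cN_pow x k]

theorem cN_map (g : X ⟶ Red.DS S ℤ) :
    cN (g ≫ Magnet.AMonS.map S N.subtype) = Red.gmFn g := by
  let φ : X.left ⟶ Spec (CommRingCat.of HN.{u}) :=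
    (g ≫ Magnet.AMonS.map S N.subtype).left ≫ pullback.fst _ _
  let g₁ : X.left ⟶ Spec (CommRingCat.of Groth.Agent.RedPts.HM.{u}) := g.left ≫ pullback.fst _ _
  let ψ := CommRingCat.ofHom
    (MonoidAlgebra.mapDomainBialgHom Z.{u} (AddMonoidHom.toMultiplicative N.subtype)).toAlgHom.toRingHom
  have h : φ = g₁ ≫ Spec.map ψ := by
    refine (Category.assoc g.left _ _).trans (Eq.trans ?_ (Category.assoc g.left _ _).symm)
    exact congrArg (g.left ≫ ·) (pullback.lift_fst _ _ _)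
  show φ.appTop ((Scheme.ΓSpecIso (CommRingCat.of HN.{u})).inv (MonoidAlgebra.single (Multiplicative.ofAdd gen) 1)) =
    g₁.appTop ((Scheme.ΓSpecIso (CommRingCat.of Groth.Agent.RedPts.HM.{u})).inv
      (MonoidAlgebra.single (Multiplicative.ofAdd (1 : ℤ)) 1))
  rw [h, Scheme.Hom.comp_appTop]
  refine congrArg g₁.appTop ((congr($((Scheme.ΓSpecIso_inv_naturality ψ).symm).hom _)).trans ?_)
  refine congrArg (Scheme.ΓSpecIso (CommRingCat.of Groth.Agent.RedPts.HM.{u})).inv ?_
  show MonoidAlgebra.mapDomainBialgHom Z.{u} (AddMonoidHom.toMultiplicative N.subtype)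
      (MonoidAlgebra.single (Multiplicative.ofAdd gen) 1) = _
  exact MonoidAlgebra.mapDomain_single

end Groth.Agent.BBInj
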