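import Groth.Agent.BBInj.Coord
import Groth.Agent.BBInj.Agree

/-! Equivariant maps out of `𝔸¹ × Y` are determined by their restrictions to the thickenings of `{0} × Y`. -/

suppress_compilation
universe u

open CategoryTheory MonoidalCategory CartesianMonoidalCategory MonObj AlgebraicGeometry Opposite
open Magnet

namespace Groth.Agent.BBInj

open Polynomial (C X)
open Groth.Agent.RedPts (exists_gmFn)

variable {S : Scheme.{u}} {Xs Ys : Over S}

/-- scaling the first coordinate moves every point towards the zero section -/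
theorem exists_point {A : Type u} [CommRing A] (p : Spec (CommRingCat.of (Polynomial A))) :
    ∃ q : Spec (CommRingCat.of (LaurentPolynomial (Polynomial A))),
      Spec.map (CommRingCat.ofHom (LaurentPolynomial.C : Polynomial A →+* LaurentPolynomial (Polynomial A))) q = p ∧
      ∀ W : (Spec (CommRingCat.of (Polynomial A))).Opens,
        (∀ r : Spec (CommRingCat.of (Polynomial A)), (X : Polynomial A) ∈ r.asIdeal → r ∈ W) →
        Spec.map (CommRingCat.ofHom (Polynomial.eval₂RingHom ((LaurentPolynomial.C).comp C)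
          (LaurentPolynomial.T 1 * LaurentPolynomial.C (X : Polynomial A)))) q ∈ W := by
  let θ₀ : Polynomial A →+* LaurentPolynomial (Polynomial A) := LaurentPolynomial.C
  let θ₁ : Polynomial A →+* LaurentPolynomial (Polynomial A) :=
    Polynomial.eval₂RingHom ((LaurentPolynomial.C).comp C) (LaurentPolynomial.T 1 * LaurentPolynomial.C X)
  have : p.asIdeal.IsPrime := p.isPrime
  let ev : Polynomial A →+* p.asIdeal.ResidueField := algebraMap _ _
  let K := RatFunc p.asIdeal.ResidueField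
  let s : Kˣ := Units.mk0 (RatFunc.X : K) RatFunc.X_ne_zero
  let χ : LaurentPolynomial (Polynomial A) →+* K :=
    LaurentPolynomial.eval₂ ((algebraMap p.asIdeal.ResidueField K).comp ev) s
  let q : Spec (CommRingCat.of (LaurentPolynomial (Polynomial A))) :=
    ⟨RingHom.ker χ, RingHom.ker_isPrime χ⟩
  have hq₀ : Spec.map (CommRingCat.ofHom θ₀) q = p := by
    refine PrimeSpectrum.ext ?_
    show (RingHom.ker χ).comap θ₀ = p.asIdeal
    ext c
    rw [Ideal.mem_comap, RingHom.mem_ker, LaurentPolynomial.eval₂_C, RingHom.comp_apply,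
      map_eq_zero, Ideal.algebraMap_residueField_eq_zero]
  let P : Polynomial A →+* Polynomial p.asIdeal.ResidueField :=
    Polynomial.eval₂RingHom (C.comp (ev.comp C)) (C (ev X) * X)
  have hP : ∀ c, χ (θ₁ c) = algebraMap _ K (P c) := fun c => by
    have : χ.comp θ₁ = (algebraMap (Polynomial p.asIdeal.ResidueField) K).comp P := by
      refine Polynomial.ringHom_ext (fun r => ?_) ?_
      · simp [χ, θ₁, P]
        exact IsScalarTower.algebraMap_apply p.asIdeal.ResidueField (Polynomial p.asIdeal.ResidueField) K _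
      · simp only [θ₁, P, RingHom.comp_apply, Polynomial.coe_eval₂RingHom, Polynomial.eval₂_X, map_mul]
        simp only [χ, LaurentPolynomial.eval₂_T, LaurentPolynomial.eval₂_C, RingHom.comp_apply, zpow_one]
        rw [mul_comm]
        refine congrArg₂ (· * ·) (IsScalarTower.algebraMap_apply p.asIdeal.ResidueField
          (Polynomial p.asIdeal.ResidueField) K _) ?_
        exact RatFunc.algebraMap_X.symm
    exact congr($this c)
  let ρ : Polynomial A →+* p.asIdeal.ResidueField := Polynomial.eval₂RingHom (ev.comp C) 0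
  let r : Spec (CommRingCat.of (Polynomial A)) := ⟨RingHom.ker ρ, RingHom.ker_isPrime ρ⟩
  have hle : Spec.map (CommRingCat.ofHom θ₁) q ⤳ r := by
    refine (PrimeSpectrum.le_iff_specializes _ r).1 fun c hc => ?_
    have hPc : P c = 0 := by
      have : χ (θ₁ c) = 0 := hc
      rwa [hP, map_eq_zero_iff _ (RatFunc.algebraMap_injective _)] at this
    have : ρ = (Polynomial.evalRingHom 0).comp P := by
      refine Polynomial.ringHom_ext (fun r => ?_) ?_ <;> simp [ρ, P]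
    show ρ c = 0
    rw [this, RingHom.comp_apply, hPc, map_zero]
  exact ⟨q, hq₀, fun W hW => hle.mem_open W.2 (hW r (show ρ X = 0 from Polynomial.eval₂_X _ _))⟩

/-- translating by a point of `𝔾ₘ` and translating back -/
theorem inv_smul (a : AlgGrp.Action (Red.DS S ℤ) Xs) {T : Over S} (g : T ⟶ Red.DS S ℤ) (x : T ⟶ Xs) :
    lift g⁻¹ (lift g x ≫ (MonAct.ofAction a).act) ≫ (MonAct.ofAction a).act = x := by
  exact ((MonAct.ofAction a).lift_mul_act g⁻¹ g x).symm.trans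
    ((congrArg (fun e => lift e x ≫ (MonAct.ofAction a).act) (inv_mul_cancel g)).trans
      ((MonAct.ofAction a).lift_one_act x))

variable (a : AlgGrp.Action (Red.DS S ℤ) Xs) (φ₁ φ₂ : (Magnet.attr (Magnet.MonAct.ofAction a) N).obj (op Ys))

/-- equivariance on points -/
theorem equivariant_apply (φ : (Magnet.attr (Magnet.MonAct.ofAction a) N).obj (op Ys)) {T : Over S}
    (g : T ⟶ Red.DS S ℤ) (m : T ⟶ AMonS S N) (y : T ⟶ Ys) :
    lift ((g ≫ AMonS.map S N.subtype) * m) y ≫ φ.1 =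
      lift g (lift m y ≫ φ.1) ≫ (MonAct.ofAction a).act := by
  refine Eq.trans ?_ ((MonAct.mem_eqvHom_iff φ.1).1 φ.2 T g m y)
  refine congrArg (fun e => lift e y ≫ φ.1) ?_
  exact ((MonAct.lift_restrict_act (AMonS.map S N.subtype) (MonAct.regular (AMonS S N)) g m).trans
    (MonAct.lift_regular_act _ m)).symm

variable (h : ∀ (T : Over S) (m : T ⟶ AMonS S N) (t : T ⟶ Ys),
    (∃ n : ℕ, ∀ m' : T ⟶ AMonS S N, m ^ (n + 1) * m' = m ^ (n + 1)) → lift m t ≫ φ₁.1 = lift m t ≫ φ₂.1)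

include h in
/-- Agreement over an affine open of the base. -/
theorem agree_affine {A : Type u} [CommRing A] (t : Spec (CommRingCat.of A) ⟶ S)
    (y : Over.mk t ⟶ Ys) (m₀ : Over.mk (Spec.map (CommRingCat.ofHom (C : A →+* Polynomial A)) ≫ t) ⟶ AMonS S N)
    (hm₀ : cN m₀ = (Scheme.ΓSpecIso (CommRingCat.of (Polynomial A))).inv (X : Polynomial A)) :
    lift m₀ ((Over.homMk (Spec.map (CommRingCat.ofHom (C : A →+* Polynomial A))) :
        Over.mk (Spec.map (CommRingCat.ofHom (C : A →+* Polynomial A)) ≫ t) ⟶ Over.mk t) ≫ y) ≫ φ₁.1 =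
      lift m₀ ((Over.homMk (Spec.map (CommRingCat.ofHom (C : A →+* Polynomial A))) :
        Over.mk (Spec.map (CommRingCat.ofHom (C : A →+* Polynomial A)) ≫ t) ⟶ Over.mk t) ≫ y) ≫ φ₂.1 := by
  let T₀ : Over S := Over.mk (Spec.map (CommRingCat.ofHom (C : A →+* Polynomial A)) ≫ t)
  let y₀ : T₀ ⟶ Ys := (Over.homMk (Spec.map (CommRingCat.ofHom C)) : T₀ ⟶ Over.mk t) ≫ y
  let f₁ : T₀ ⟶ Xs := lift m₀ y₀ ≫ φ₁.1
  let f₂ : T₀ ⟶ Xs := lift m₀ y₀ ≫ φ₂.1
  show f₁ = f₂
  apply Over.OverMorphism.ext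
  -- agreement on the thickenings
  have hn : ∀ n : ℕ,
      Spec.map (CommRingCat.ofHom (Ideal.Quotient.mk (Ideal.span {(X : Polynomial A) ^ n}))) ≫ f₁.left =
        Spec.map (CommRingCat.ofHom (Ideal.Quotient.mk (Ideal.span {(X : Polynomial A) ^ n}))) ≫ f₂.left := by
    intro n
    let q := CommRingCat.ofHom (Ideal.Quotient.mk (Ideal.span {(X : Polynomial A) ^ n}))
    let T : Over S := Over.mk (Spec.map q ≫ T₀.hom)
    let π : T ⟶ T₀ := Over.homMk (Spec.map q)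
    have hzero : cN ((π ≫ m₀) ^ (n + 1)) = 0 := by
      rw [cN_pow, cN_comp, hm₀, ← map_pow, ← map_pow]
      refine (congr($((Scheme.ΓSpecIso_inv_naturality q).symm).hom _)).trans ?_
      show (Scheme.ΓSpecIso (CommRingCat.of (Polynomial A ⧸ Ideal.span {(X : Polynomial A) ^ n}))).inv
        (Ideal.Quotient.mk (Ideal.span {(X : Polynomial A) ^ n}) ((X : Polynomial A) ^ (n + 1))) = 0
      rw [Ideal.Quotient.eq_zero_iff_mem.2 (Ideal.mem_span_singleton.2 (pow_dvd_pow _ (Nat.le_succ n))), map_zero]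
    have := h T (π ≫ m₀) (π ≫ y₀) ⟨n, fun m' => cN_injective (by rw [cN_mul, hzero, zero_mul])⟩
    rw [← comp_lift, Category.assoc, Category.assoc] at this
    exact congrArg (fun f : T ⟶ Xs => f.left) this
  let W : (Spec (CommRingCat.of (Polynomial A))).Opens := sSup {U | U.ι ≫ f₁.left = U.ι ≫ f₂.left}
  have hW : W.ι ≫ f₁.left = W.ι ≫ f₂.left := by
    refine Scheme.hom_ext_of_forall _ _ fun x => ?_
    obtain ⟨U, hU, hxU⟩ := TopologicalSpace.Opens.mem_sSup.1 x.2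
    refine ⟨W.ι ⁻¹ᵁ U, hxU, ?_⟩
    rw [← Category.assoc, ← Category.assoc, ← morphismRestrict_ι, Category.assoc, Category.assoc]
    exact congrArg _ hU
  have hVW : ∀ p : Spec (CommRingCat.of (Polynomial A)), (X : Polynomial A) ∈ p.asIdeal → p ∈ W := fun p hp => by
    obtain ⟨U, hpU, hU⟩ := exists_open_agree f₁.left f₂.left hn p hp
    exact TopologicalSpace.Opens.mem_sSup.2 ⟨U, hU, hpU⟩
  -- scaling
  let θ₀ : Polynomial A →+* LaurentPolynomial (Polynomial A) := LaurentPolynomial.C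
  let θ₁ : Polynomial A →+* LaurentPolynomial (Polynomial A) :=
    Polynomial.eval₂RingHom ((LaurentPolynomial.C).comp C) (LaurentPolynomial.T 1 * LaurentPolynomial.C X)
  let T₂ : Over S := Over.mk (Spec.map (CommRingCat.ofHom θ₀) ≫ T₀.hom)
  let π₀ : T₂ ⟶ T₀ := Over.homMk (Spec.map (CommRingCat.ofHom θ₀))
  have hθ : θ₁.comp C = θ₀.comp C := RingHom.ext fun c => Polynomial.eval₂_C _ _
  have hθ' : Spec.map (CommRingCat.ofHom θ₁) ≫ Spec.map (CommRingCat.ofHom (C : A →+* Polynomial A)) =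
      Spec.map (CommRingCat.ofHom θ₀) ≫ Spec.map (CommRingCat.ofHom (C : A →+* Polynomial A)) := by
    rw [← Spec.map_comp, ← Spec.map_comp, ← CommRingCat.ofHom_comp, ← CommRingCat.ofHom_comp, hθ]
  let π₁ : T₂ ⟶ T₀ := Over.homMk (Spec.map (CommRingCat.ofHom θ₁))
    ((Category.assoc _ _ t).symm.trans ((congrArg (· ≫ t) hθ').trans (Category.assoc _ _ t)))
  obtain ⟨g, hg⟩ := exists_gmFn (S := S) (X := T₂)
    (((LaurentPolynomial.isUnit_T 1).map
      (Scheme.ΓSpecIso (CommRingCat.of (LaurentPolynomial (Polynomial A)))).inv.hom).unit)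
  have hm : π₁ ≫ m₀ = (g ≫ AMonS.map S N.subtype) * (π₀ ≫ m₀) := by
    refine cN_injective ?_
    rw [cN_mul, cN_map, hg, cN_comp, cN_comp, hm₀, IsUnit.unit_spec]
    refine (congr($((Scheme.ΓSpecIso_inv_naturality (CommRingCat.ofHom θ₁)).symm).hom _)).trans
      (Eq.trans ?_ (congrArg (_ * ·) (congr($((Scheme.ΓSpecIso_inv_naturality (CommRingCat.ofHom θ₀)).symm).hom _))).symm)
    refine Eq.trans ?_ (map_mul (Scheme.ΓSpecIso (CommRingCat.of (LaurentPolynomial (Polynomial A)))).inv.hom _ _)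
    exact congrArg (Scheme.ΓSpecIso (CommRingCat.of (LaurentPolynomial (Polynomial A)))).inv.hom
      (Polynomial.eval₂_X _ _)
  have hy : π₁ ≫ y₀ = π₀ ≫ y₀ := by
    show π₁ ≫ _ ≫ y = π₀ ≫ _ ≫ y
    rw [← Category.assoc, ← Category.assoc]
    exact congrArg (· ≫ y) (Over.OverMorphism.ext hθ')
  have key : ∀ φ : (Magnet.attr (Magnet.MonAct.ofAction a) N).obj (op Ys),
      π₀ ≫ lift m₀ y₀ ≫ φ.1 = lift g⁻¹ (π₁ ≫ lift m₀ y₀ ≫ φ.1) ≫ (MonAct.ofAction a).act := fun φ => by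
    rw [← Category.assoc π₁, comp_lift, hm, hy, equivariant_apply a φ g, ← comp_lift, Category.assoc]
    exact (inv_smul a g _).symm
  let W₂ : (Spec (CommRingCat.of (LaurentPolynomial (Polynomial A)))).Opens :=
    Spec.map (CommRingCat.ofHom θ₁) ⁻¹ᵁ W
  let i₂ : Over.mk (W₂.ι ≫ T₂.hom) ⟶ T₂ := Over.homMk W₂.ι
  have hi : (i₂ ≫ π₁) ≫ f₁ = (i₂ ≫ π₁) ≫ f₂ := by
    apply Over.OverMorphism.ext
    show (W₂.ι ≫ Spec.map (CommRingCat.ofHom θ₁)) ≫ f₁.left = (W₂.ι ≫ Spec.map (CommRingCat.ofHom θ₁)) ≫ f₂.left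
    rw [← morphismRestrict_ι, Category.assoc, Category.assoc]
    exact congrArg _ hW
  have hfin : i₂ ≫ π₀ ≫ f₁ = i₂ ≫ π₀ ≫ f₂ := by
    have gen : ∀ (x₁ x₂ : T₂ ⟶ Xs), i₂ ≫ x₁ = i₂ ≫ x₂ →
        i₂ ≫ lift g⁻¹ x₁ ≫ (MonAct.ofAction a).act = i₂ ≫ lift g⁻¹ x₂ ≫ (MonAct.ofAction a).act :=
      fun x₁ x₂ e => by rw [← Category.assoc, ← Category.assoc, comp_lift, comp_lift, e]
    have e₀ : i₂ ≫ π₁ ≫ f₁ = i₂ ≫ π₁ ≫ f₂ :=
      (Category.assoc i₂ π₁ f₁).symm.trans (hi.trans (Category.assoc i₂ π₁ f₂))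
    exact (congrArg (i₂ ≫ ·) (key φ₁)).trans ((gen _ _ e₀).trans (congrArg (i₂ ≫ ·) (key φ₂)).symm)
  -- descent
  let j : (W₂ : Scheme.{u}) ⟶ Spec (CommRingCat.of (Polynomial A)) := W₂.ι ≫ Spec.map (CommRingCat.ofHom θ₀)
  have : Flat (Spec.map (CommRingCat.ofHom θ₀)) := by
    rw [HasRingHomProperty.Spec_iff (P := @Flat), CommRingCat.hom_ofHom]
    exact RingHom.flat_algebraMap_iff.2
      (inferInstanceAs (Module.Flat (Polynomial A) (AddMonoidAlgebra (Polynomial A) ℤ)))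
  have hsurj : Surjective j := ⟨fun p => by
    obtain ⟨q, hq₀, hq₁⟩ := exists_point p
    exact ⟨⟨q, hq₁ W hVW⟩, hq₀⟩⟩
  have : Flat j := inferInstanceAs (Flat (W₂.ι ≫ _))
  have : Epi j := Flat.epi_of_flat_of_surjective j
  refine (cancel_epi j).1 ?_
  exact (Category.assoc _ _ _).trans
    ((congrArg (fun f : Over.mk (W₂.ι ≫ T₂.hom) ⟶ Xs => f.left) hfin).trans (Category.assoc _ _ _).symm)

include h in
/-- Injectivity. -/
theorem hom_eq : φ₁ = φ₂ := by
  refine Subtype.ext (Over.OverMorphism.ext (Scheme.hom_ext_of_forall _ _ fun x => ?_))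
  let P : Over S := AMonS S N ⊗ Ys
  let sndL : P.left ⟶ Ys.left := (snd (AMonS S N) Ys).left
  obtain ⟨U, hU, hxU, -⟩ := exists_isAffineOpen_mem_and_subset (x := sndL x) (U := ⊤) trivial
  obtain ⟨V, hV, hxV, hVU⟩ := exists_isAffineOpen_mem_and_subset (x := x) (U := sndL ⁻¹ᵁ U) hxU
  refine ⟨V, hxV, ?_⟩
  let T : Over S := Over.mk (hV.fromSpec ≫ P.hom)
  let j : T ⟶ P := Over.homMk hV.fromSpec
  let yT : Spec Γ(P.left, V) ⟶ Spec Γ(Ys.left, U) := IsOpenImmersion.lift hU.fromSpec (hV.fromSpec ≫ sndL) (by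
    rintro _ ⟨z, rfl⟩
    rw [IsAffineOpen.range_fromSpec]
    exact hVU (hV.range_fromSpec.le ⟨z, rfl⟩))
  have hyT : yT ≫ hU.fromSpec = hV.fromSpec ≫ sndL := IsOpenImmersion.lift_fac _ _ _
  let t : Spec (CommRingCat.of Γ(Ys.left, U)) ⟶ S := hU.fromSpec ≫ Ys.hom
  let y : Over.mk t ⟶ Ys := Over.homMk hU.fromSpec
  let r : Γ(P.left, V) := (Scheme.ΓSpecIso Γ(P.left, V)).hom (cN (j ≫ fst (AMonS S N) Ys))
  let Φ : Polynomial Γ(Ys.left, U) →+* Γ(P.left, V) := Polynomial.eval₂RingHom (Spec.preimage yT).hom r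
  obtain ⟨m₀, hm₀⟩ := exists_cN (S := S) (X := Over.mk (Spec.map (CommRingCat.ofHom
    (C : Γ(Ys.left, U) →+* Polynomial Γ(Ys.left, U))) ≫ t))
    ((Scheme.ΓSpecIso (CommRingCat.of (Polynomial Γ(Ys.left, U)))).inv (X : Polynomial Γ(Ys.left, U)))
  have hC : Spec.map (CommRingCat.ofHom Φ) ≫
      Spec.map (CommRingCat.ofHom (C : Γ(Ys.left, U) →+* Polynomial Γ(Ys.left, U))) = yT := by
    rw [← Spec.map_comp, ← Spec.map_preimage yT]
    congr 1
    ext c
    exact Polynomial.eval₂_C _ _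
  let π : T ⟶ Over.mk (Spec.map (CommRingCat.ofHom
      (C : Γ(Ys.left, U) →+* Polynomial Γ(Ys.left, U))) ≫ t) := Over.homMk (Spec.map (CommRingCat.ofHom Φ)) (by
    show Spec.map (CommRingCat.ofHom Φ) ≫ _ ≫ hU.fromSpec ≫ Ys.hom = hV.fromSpec ≫ P.hom
    rw [← Category.assoc, ← Category.assoc, hC, hyT, Category.assoc]
    exact congrArg _ (Over.w (snd (AMonS S N) Ys)))
  have hπm : π ≫ m₀ = j ≫ fst _ _ := by
    refine cN_injective ?_
    rw [cN_comp, hm₀]
    refine (congr($((Scheme.ΓSpecIso_inv_naturality (CommRingCat.ofHom Φ)).symm).hom _)).trans ?_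
    show (Scheme.ΓSpecIso Γ(P.left, V)).inv (Φ X) = _
    rw [show Φ X = r from Polynomial.eval₂_X _ _]
    exact congr($((Scheme.ΓSpecIso Γ(P.left, V)).hom_inv_id).hom _)
  have hπy : π ≫ (Over.homMk (Spec.map (CommRingCat.ofHom C)) : _ ⟶ Over.mk t) ≫ y = j ≫ snd _ _ := by
    apply Over.OverMorphism.ext
    show Spec.map _ ≫ Spec.map _ ≫ hU.fromSpec = hV.fromSpec ≫ sndL
    rw [← Category.assoc, hC, hyT]
  have e : ∀ φ : (Magnet.attr (Magnet.MonAct.ofAction a) N).obj (op Ys),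
      π ≫ lift m₀ ((Over.homMk (Spec.map (CommRingCat.ofHom C)) : _ ⟶ Over.mk t) ≫ y) ≫ φ.1 = j ≫ φ.1 := fun φ => by
    rw [← Category.assoc, comp_lift, hπm, hπy, ← comp_lift, lift_fst_snd, Category.comp_id]
  have this : j ≫ φ₁.1 = j ≫ φ₂.1 :=
    (e φ₁).symm.trans ((congrArg (π ≫ ·) (agree_affine a φ₁ φ₂ h t y m₀ hm₀)).trans (e φ₂))
  have h' : hV.fromSpec ≫ φ₁.1.left = hV.fromSpec ≫ φ₂.1.left :=
    congrArg (fun f : T ⟶ Xs => f.left) this
  rw [← cancel_epi hV.isoSpec.inv]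
  simpa [IsAffineOpen.isoSpec_inv_ι_assoc] using h'

end Groth.Agent.BBInj
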